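import Cfsg.Agent.Lib.SLTwoFpf.Natural
import Cfsg.Agent.Lib.SpecLin.SLTwoTrace

/-!
From an extension of a 2-group by `SL(2, 2ⁿ)` with a fixed-point-free element of order 3 to the
modules on the abelian sections (helper62).
-/

set_option autoImplicit false
set_option linter.unusedSectionVars false

namespace CfsgLib.SLTwoFpf

open MatrixGroups
open scoped IsMulCommutative

variable {K : Type*} [Field K] [Fintype K] [CharP K 2]

theorem nonscalar_of_ne_one {g : SL(2, K)} (h1 : g ≠ 1) (s : K) :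
    (g : Matrix (Fin 2) (Fin 2) K) ≠ s • 1 := by
  intro h
  have hd := g.2
  rw [h, Matrix.det_smul, Matrix.det_one, mul_one, Fintype.card_fin, pow_two] at hd
  have hs : s = 1 := by
    have : (s + 1) * (s + 1) = 0 := by
      have h2 : (2 : K) = 0 := CharTwo.two_eq_zero
      linear_combination hd + (s + 1) * h2
    exact CharTwo.add_eq_zero.1 (mul_self_eq_zero.1 this)
  rw [hs, one_smul] at h
  exact h1 (Subtype.ext h)

theorem trace_of_cube {g : SL(2, K)} (h3 : g ^ 3 = 1) (h1 : g ≠ 1) :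
    (g : Matrix (Fin 2) (Fin 2) K).trace = 1 := by
  set M : Matrix (Fin 2) (Fin 2) K := g.1 with hM
  set t := M.trace with ht
  have hsq : M * M = t • M - 1 := CfsgLib.SpecLin.SLTwo.sq_eq M g.2
  have hcube : M * M * M = 1 := by
    have := congrArg Subtype.val h3
    simpa [pow_succ] using this
  have e : (t * t - 1) • M = (1 + t) • (1 : Matrix (Fin 2) (Fin 2) K) := by
    have e1 : (t • M - 1) * M = 1 := by rw [← hsq]; exact hcube
    rw [sub_mul, one_mul, smul_mul_assoc, hsq, smul_sub, smul_smul] at e1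
    rw [sub_smul, one_smul, add_smul, one_smul]
    calc (t * t) • M - M = ((t * t) • M - t • 1 - M) + t • 1 := by abel
      _ = _ := by rw [e1]
  by_contra hne
  have hc : t * t - 1 ≠ 0 := by
    intro h
    refine hne (CharTwo.add_eq_zero.1 (mul_self_eq_zero.1 (?_ : (t + 1) * (t + 1) = 0)))
    have h2 : (2 : K) = 0 := CharTwo.two_eq_zero
    linear_combination h + (t + 1) * h2
  refine nonscalar_of_ne_one h1 ((t * t - 1)⁻¹ * (1 + t)) ?_
  rw [← smul_smul, ← e, smul_smul, inv_mul_cancel₀ hc, one_smul]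

theorem isConj_of_cube {g h : SL(2, K)} (hg : g ^ 3 = 1) (hg1 : g ≠ 1) (hh : h ^ 3 = 1)
    (hh1 : h ≠ 1) : IsConj g h :=
  CfsgLib.SpecLin.SLTwo.isConj_of_trace_eq (Or.inl CharTwo.two_eq_zero) (nonscalar_of_ne_one hg1)
    (nonscalar_of_ne_one hh1) (by rw [trace_of_cube hg hg1, trace_of_cube hh hh1])

variable {G : Type*} [Group G] [Finite G] (A : Subgroup G) [A.Normal] [IsMulCommutative A]

/-- conjugation on an abelian normal subgroup -/
def conjEnd : G →* AddMonoid.End (Additive ↥A) where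
  toFun g := MonoidHom.toAdditive (MulAut.conjNormal g : MulAut ↥A).toMonoidHom
  map_one' := AddMonoidHom.ext fun v =>
    congrArg Additive.ofMul (Subtype.ext (show (1 : G) * (v.toMul : G) * 1⁻¹ = v.toMul by simp))
  map_mul' g h := AddMonoidHom.ext fun v =>
    congrArg Additive.ofMul (Subtype.ext (show g * h * (v.toMul : G) * (g * h)⁻¹ =
      g * (h * (v.toMul : G) * h⁻¹) * g⁻¹ by group))

theorem conjEnd_apply (g : G) (a : ↥A) :
    ((conjEnd A g (Additive.ofMul a)).toMul : G) = g * (a : G) * g⁻¹ := rfl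

theorem exists_action {Q : Subgroup G} [Q.Normal] (hQ : IsPGroup 2 Q) (hQA : A ≤ Subgroup.centralizer (Q : Set G))
    (e : G ⧸ Q ≃* SL(2, K)) {x : G} (hx : orderOf x = 3) (hfpf : ∀ a ∈ A, x * a * x⁻¹ = a → a = 1) :
    ∃ ρ : SL(2, K) →* AddMonoid.End (Additive ↥A), IsFpf ρ ∧
      ∀ g : G, ρ (e (g : G ⧸ Q)) = conjEnd A g := by
  have hker : Q ≤ (conjEnd A).ker := fun q hq => AddMonoidHom.ext fun v => by
    refine congrArg Additive.ofMul (Subtype.ext ?_)
    show q * (v.toMul : G) * q⁻¹ = v.toMul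
    rw [hQA v.toMul.2 q hq, mul_inv_cancel_right]
  let ρ : SL(2, K) →* AddMonoid.End (Additive ↥A) :=
    (QuotientGroup.lift Q (conjEnd A) hker).comp e.symm.toMonoidHom
  have hρ : ∀ g : G, ρ (e (g : G ⧸ Q)) = conjEnd A g := fun g => by simp [ρ]
  refine ⟨ρ, ?_, hρ⟩
  have hx3 : x ^ 3 = 1 := hx ▸ pow_orderOf_eq_one x
  have hX3 : (e (x : G ⧸ Q)) ^ 3 = 1 := by
    rw [← map_pow, ← QuotientGroup.mk_pow, hx3, QuotientGroup.mk_one, map_one]
  have hX1 : e (x : G ⧸ Q) ≠ 1 := by
    intro h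
    rw [EmbeddingLike.map_eq_one_iff, QuotientGroup.eq_one_iff] at h
    obtain ⟨k, hk⟩ := hQ ⟨x, h⟩
    have h1 : x ^ 2 ^ k = 1 := congrArg Subtype.val hk
    have h2 := hx ▸ orderOf_dvd_of_pow_eq_one h1
    exact absurd (Nat.Prime.dvd_of_dvd_pow Nat.prime_three h2) (by norm_num)
  have hbase : 1 + conjEnd A x + conjEnd A x * conjEnd A x = 0 := by
    refine AddMonoidHom.ext fun v => ?_
    show v + conjEnd A x v + conjEnd A x (conjEnd A x v) = 0
    set s := v + conjEnd A x v + conjEnd A x (conjEnd A x v)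
    have h3 : conjEnd A x (conjEnd A x (conjEnd A x v)) = v := by
      show (conjEnd A x * (conjEnd A x * conjEnd A x)) v = v
      rw [← map_mul, ← map_mul, ← pow_two, ← pow_succ', hx3, map_one]
      rfl
    have hfix : conjEnd A x s = s := by
      simp only [s, map_add, h3]; abel
    have := hfpf (s.toMul : G) s.toMul.2 (congrArg (fun a : Additive ↥A => (a.toMul : G)) hfix)
    exact (congrArg Additive.ofMul (Subtype.ext this : s.toMul = 1) :)
  intro g hg hg1
  obtain ⟨c, hc⟩ := isConj_iff.1 (isConj_of_cube hX3 hX1 hg hg1)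
  have hg' : ρ g = ρ c * conjEnd A x * ρ c⁻¹ := by rw [← hc, map_mul, map_mul, hρ]
  have hcc : ρ c * ρ c⁻¹ = 1 := by rw [← map_mul, mul_inv_cancel, map_one]
  have hcc' : ρ c⁻¹ * ρ c = 1 := by rw [← map_mul, inv_mul_cancel, map_one]
  calc 1 + ρ g + ρ g * ρ g
      = ρ c * ρ c⁻¹ + ρ c * conjEnd A x * ρ c⁻¹ +
          ρ c * conjEnd A x * (ρ c⁻¹ * ρ c) * conjEnd A x * ρ c⁻¹ := by
        rw [hcc, hg']; simp only [mul_assoc]
    _ = ρ c * (1 + conjEnd A x + conjEnd A x * conjEnd A x) * ρ c⁻¹ := by rw [hcc']; noncomm_ring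
    _ = 0 := by rw [hbase, mul_zero, zero_mul]

end CfsgLib.SLTwoFpf
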