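import Mathlib

/-!
Transvections of `SL(2, K)` in characteristic two (helper62, for Higman's theorem on natural modules).
-/

set_option autoImplicit false

namespace CfsgLib.SLTwoFpf

open Matrix MatrixGroups

variable {K : Type*} [Field K]

/-- upper transvection -/
def up (a : K) : SL(2, K) := ⟨!![1, a; 0, 1], by simp [det_fin_two]⟩

/-- lower transvection -/
def lo (a : K) : SL(2, K) := ⟨!![1, 0; a, 1], by simp [det_fin_two]⟩

/-- the Weyl element -/
def wy : SL(2, K) := up 1 * lo 1 * up 1

/-- the torus element -/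
def dg (l : K) : SL(2, K) := up l * lo l⁻¹ * up l * wy

theorem sl_ext {A B : SL(2, K)} (h00 : A.1 0 0 = B.1 0 0) (h01 : A.1 0 1 = B.1 0 1)
    (h10 : A.1 1 0 = B.1 1 0) (h11 : A.1 1 1 = B.1 1 1) : A = B := by
  apply Subtype.ext
  ext i j
  fin_cases i <;> fin_cases j <;> assumption

@[simp] theorem coe_up (a : K) : (up a : Matrix (Fin 2) (Fin 2) K) = !![1, a; 0, 1] := rfl

@[simp] theorem coe_lo (a : K) : (lo a : Matrix (Fin 2) (Fin 2) K) = !![1, 0; a, 1] := rfl

@[simp] theorem up_zero : up (0 : K) = 1 := by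
  apply sl_ext <;> simp

theorem up_mul (a b : K) : up a * up b = up (a + b) := by
  apply sl_ext <;> simp [add_comm]

theorem lo_mul (a b : K) : lo a * lo b = lo (a + b) := by
  apply sl_ext <;> simp

/-- every element is a product of transvections -/
theorem mem_of_transvections {H : Subgroup SL(2, K)} (hu : ∀ a : K, up a ∈ H) (hl : ∀ a : K, lo a ∈ H)
    (g : SL(2, K)) : g ∈ H := by
  have key : ∀ g : SL(2, K), g.1 1 0 ≠ 0 → g ∈ H := by
    intro g hg
    have hd := g.2
    rw [det_fin_two] at hd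
    have e : g = up ((g.1 0 0 - 1) / g.1 1 0) * lo (g.1 1 0) * up ((g.1 1 1 - 1) / g.1 1 0) := by
      apply sl_ext <;> simp [Matrix.mul_apply, Fin.sum_univ_two] <;> field_simp <;>
        first | ring1 | linear_combination hd | linear_combination (-1 : K) * hd
    rw [e]
    exact mul_mem (mul_mem (hu _) (hl _)) (hu _)
  by_cases hg : g.1 1 0 = 0
  · have h1 : (g * lo 1).1 1 0 ≠ 0 := by
      have hd := g.2
      rw [det_fin_two, hg, mul_zero, sub_zero] at hd
      simp [Matrix.mul_apply, Fin.sum_univ_two, hg]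
      exact right_ne_zero_of_mul_eq_one hd
    have h2 := mul_mem (key _ h1) (inv_mem (hl 1))
    simpa using h2
  · exact key g hg

variable [CharP K 2]

theorem up_mul_lo_cube {a : K} (ha : a ≠ 0) : (up a * lo a⁻¹) ^ 3 = 1 := by
  apply sl_ext <;> simp [pow_succ, Matrix.mul_apply, Fin.sum_univ_two, ha,
    CharTwo.add_self_eq_zero]

theorem up_mul_lo_ne_one {a : K} (ha : a ≠ 0) : up a * lo a⁻¹ ≠ 1 := fun h => by
  have := congrArg (fun g : SL(2, K) => g.1 0 1) h
  simp [Matrix.mul_apply, Fin.sum_univ_two, ha] at this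

theorem wy_mul_up (a : K) : wy * up a * wy = lo a := by
  apply sl_ext <;> simp [wy, Matrix.mul_apply, Fin.sum_univ_two, CharTwo.add_self_eq_zero]

theorem wy_mul_lo (a : K) : wy * lo a * wy = up a := by
  apply sl_ext <;> simp [wy, Matrix.mul_apply, Fin.sum_univ_two, CharTwo.add_self_eq_zero]

theorem dg_mul_up {l : K} (hl : l ≠ 0) (a : K) : dg l * up a = up (l * l * a) * dg l := by
  apply sl_ext <;> simp [dg, wy, Matrix.mul_apply, Fin.sum_univ_two, hl,
    CharTwo.add_self_eq_zero] <;> field_simp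

end CfsgLib.SLTwoFpf
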