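import Cfsg.Agent.Lib.SLTwoFpf.Module

/-!
A finite abelian 2-group on which `SL(2, 2ⁿ)`, `n ≥ 2`, acts with fixed-point-free elements of order
3 has exponent 2 (helper62).
-/

set_option autoImplicit false
set_option linter.unusedSectionVars false

namespace CfsgLib.SLTwoFpf

open MatrixGroups

variable {K : Type*} [Field K] [CharP K 2] {M : Type*} [AddCommGroup M]

variable (M) in
/-- `k • M` -/
def mulRange (k : ℕ) : AddSubgroup M := (k • AddMonoidHom.id M).range

theorem mem_mulRange {k : ℕ} {v : M} : v ∈ mulRange M k ↔ ∃ w, k • w = v := Iff.rfl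

theorem mulRange_le_comap (k : ℕ) (f : AddMonoid.End M) :
    mulRange M k ≤ (mulRange M k).comap f := by
  rintro _ ⟨w, rfl⟩
  exact ⟨f w, (map_nsmul f k w).symm⟩

/-- the induced map on `M / kM` -/
def quotEnd (k : ℕ) : AddMonoid.End M →+* AddMonoid.End (M ⧸ mulRange M k) where
  toFun f := QuotientAddGroup.map _ _ f (mulRange_le_comap k f)
  map_one' := AddMonoidHom.ext fun v => QuotientAddGroup.induction_on v fun _ => rfl
  map_mul' f g := AddMonoidHom.ext fun v => QuotientAddGroup.induction_on v fun _ => rfl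
  map_zero' := AddMonoidHom.ext fun v => QuotientAddGroup.induction_on v fun _ => rfl
  map_add' f g := AddMonoidHom.ext fun v => QuotientAddGroup.induction_on v fun _ => rfl

theorem quotEnd_eq_iff {k : ℕ} {f g : AddMonoid.End M} :
    quotEnd k f = quotEnd k g ↔ ∀ v, ∃ w, k • w = f v - g v := by
  constructor
  · intro h v
    exact (QuotientAddGroup.eq_iff_sub_mem.1
      (DFunLike.congr_fun h (v : M ⧸ mulRange M k) : (_ : M ⧸ mulRange M k) = _))
  · intro h
    exact AddMonoidHom.ext fun v => QuotientAddGroup.induction_on v fun v =>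
      QuotientAddGroup.eq_iff_sub_mem.2 (h v)

theorem isFpf_quot {ρ : SL(2, K) →* AddMonoid.End M} (hρ : IsFpf ρ) (k : ℕ) :
    IsFpf ((quotEnd (M := M) k).toMonoidHom.comp ρ) := fun g h3 h1 => by
  show 1 + quotEnd k (ρ g) + quotEnd k (ρ g) * quotEnd k (ρ g) = 0
  rw [← map_mul (quotEnd k), ← map_one (quotEnd (M := M) k), ← map_add, ← map_add, hρ g h3 h1,
    map_zero]

theorem quot_two (f : AddMonoid.End (M ⧸ mulRange M 2)) : f + f = 0 :=
  AddMonoidHom.ext fun v => by
    obtain ⟨w, hw⟩ := QuotientAddGroup.mk_surjective (f v)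
    show f v + f v = 0
    rw [← hw, ← QuotientAddGroup.mk_add]
    exact (QuotientAddGroup.eq_zero_iff _).2 ⟨w, two_nsmul w⟩

theorem two_torsion_step [Fintype K] (hK : 4 ∣ Fintype.card K) {ρ : SL(2, K) →* AddMonoid.End M}
    (hρ : IsFpf ρ) (h4 : ∀ v : M, 4 • v = 0) (v : M) : v + v = 0 := by
  obtain ⟨x, hx, hgen⟩ := exists_pow_generator (K := K)
  have hx1 : x ≠ 1 := by
    intro h
    have h2 : Fintype.card K ≤ 2 := by
      classical
      rw [← Finset.card_univ]
      refine le_trans (Finset.card_le_card fun a _ => ?_) (Finset.card_le_two (a := (0 : K)) (b := 1))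
      by_cases ha : a = 0
      · simp [ha]
      · obtain ⟨k, rfl⟩ := hgen a ha
        simp [h]
    have := Nat.le_of_dvd Fintype.card_pos hK
    omega
  obtain ⟨L⟩ := exists_lin (isFpf_quot hρ 2) quot_two hx hx1 hgen
  set π := quotEnd (M := M) 2 with hπ
  set U := ρ (up (1 : K)) with hU
  set Ux := ρ (up x) with hUx
  set X := sc ρ x with hX
  set D : AddMonoid.End M := 1 + X + (1 + X) with hD
  set q := Fintype.card K
  have hscq : ∀ a, π (sc ρ a) = L.Φ a := fun a => by
    rw [← L.sc_eq]; simp only [sc, map_add, map_mul]; rfl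
  have hz4 : ∀ f : AddMonoid.End M, f + f + (f + f) = 0 := fun f => AddMonoidHom.ext fun w => by
    show f w + f w + (f w + f w) = 0
    rw [← h4 (f w)]; abel
  -- maps into `2M` die when doubled
  have hdie : ∀ {f g : AddMonoid.End M}, π f = π g → f + f = g + g := fun {f g} h =>
    AddMonoidHom.ext fun w => by
      obtain ⟨u, hu⟩ := quotEnd_eq_iff.1 h w
      show f w + f w = g w + g w
      have e : f w = 2 • u + g w := by rw [hu]; abel
      calc f w + f w = 4 • u + (g w + g w) := by rw [e]; abel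
        _ = _ := by rw [h4, zero_add]
  have hUxeq : π Ux = 1 + π X * (π U + 1) := by rw [hscq]; exact L.up_eq x
  have hUX : U * X = X * U + D := by
    have h1 : π (Ux + X * U) = π (1 + X) := by
      rw [map_add, map_add, map_mul, map_one, hUxeq]
      calc 1 + π X * (π U + 1) + π X * π U = 1 + π X + (π X * π U + π X * π U) := by noncomm_ring
        _ = 1 + π X := by rw [quot_two, add_zero]
    have h2 : U * X = X * U - ((Ux + X * U) + (Ux + X * U)) := by
      calc U * X = (U * X + X * U) - X * U := by abel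
        _ = _ := by rw [sc_anti_up hρ x]; abel
    rw [h2, hdie h1, hD, sub_eq_add_neg]
    congr 1
    exact neg_eq_of_add_eq_zero_right (hz4 _)
  have hDX : D * X = X * D := by rw [hD]; noncomm_ring
  have hUXk : ∀ k : ℕ, U * X ^ (k + 1) = X ^ (k + 1) * U + (k + 1) • (X ^ k * D) := by
    intro k
    induction k with
    | zero => simpa using hUX
    | succ k ih =>
      rw [pow_succ X (k + 1), ← mul_assoc, ih, add_mul, mul_assoc (X ^ (k + 1)), hUX, smul_mul_assoc,
        mul_assoc (X ^ k), hDX, ← mul_assoc (X ^ k), ← pow_succ, mul_add, ← mul_assoc, add_assoc,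
        ← succ_nsmul' (X ^ (k + 1) * D) (k + 1)]
  set T := X ^ q with hT
  have hTU : U * T = T * U := by
    obtain ⟨j, hj⟩ := hK
    have h0 : 0 < q := Fintype.card_pos
    have e := hUXk (q - 1)
    rw [Nat.sub_add_cancel h0] at e
    rw [e, add_eq_left]
    refine AddMonoidHom.ext fun w => ?_
    show q • ((X ^ (q - 1) * D) w) = 0
    rw [show q = 4 * j from hj, mul_nsmul', h4]
  have hTUx : T * Ux = Ux * T := ((show Commute X Ux from sc_up_self x).pow_left q).eq
  set n : AddMonoid.End M := U + 1 with hn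
  set r := Ux + 1 - T * n with hr
  have hTn : n * T = T * n := by rw [hn, add_mul, mul_add, hTU, one_mul, mul_one]
  have hπr : π r = 0 := by
    rw [hr, map_sub, map_add, map_mul, hT, map_pow, hscq, ← map_pow L.Φ, FiniteField.pow_card, hn,
      map_add, map_one]
    rw [show π Ux = 1 + L.Φ x * (π U + 1) from L.up_eq x]
    calc 1 + L.Φ x * (π U + 1) + 1 - L.Φ x * (π U + 1) = 1 + 1 := by abel
      _ = 0 := quot_two _
  have hr2 : r + r = 0 := by
    rw [hdie (hπr.trans (map_zero π).symm), add_zero]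
  have hrr : r * r = 0 := AddMonoidHom.ext fun w => by
    obtain ⟨u, hu⟩ := quotEnd_eq_iff.1 (hπr.trans (map_zero π).symm) w
    show r (r w) = 0
    rw [show r w = 2 • u by rw [hu]; simp, map_nsmul, two_nsmul]
    exact DFunLike.congr_fun hr2 u
  have hnn : n * n = n + n := by
    calc n * n = U * U + (U + U) + 1 := by rw [hn]; noncomm_ring
      _ = n + n := by rw [hU, up_sq, hn]; abel
  have hnUx : n * Ux = Ux * n := by rw [hn, add_mul, mul_add, one_mul, mul_one, hU, hUx, up_comm]
  have hrn : r * n = n * r := by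
    rw [hr]
    simp only [sub_mul, mul_sub, add_mul, mul_add, one_mul, mul_one, hnUx, ← mul_assoc, hTn]
  have hrT : r * T = T * r := by
    rw [hr]
    simp only [sub_mul, mul_sub, add_mul, mul_add, one_mul, mul_one, hTUx, mul_assoc, hTn]
  have hkey : T * T * (n + n) = T * n + T * n := by
    have e1 : (Ux + 1) * (Ux + 1) = (Ux + 1) + (Ux + 1) := by
      calc (Ux + 1) * (Ux + 1) = Ux * Ux + (Ux + Ux) + 1 := by noncomm_ring
        _ = _ := by rw [hUx, up_sq]; abel
    have e2 : Ux + 1 = T * n + r := by rw [hr]; abel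
    rw [e2] at e1
    have e3 : (T * n + r) * (T * n + r) = T * T * (n * n) + T * n * (r + r) + r * r := by
      have a1 : T * n * (T * n) = T * T * (n * n) := by
        rw [mul_assoc, ← mul_assoc n T, hTn, mul_assoc T n, ← mul_assoc]
      have a2 : r * (T * n) = T * n * r := by rw [← mul_assoc, hrT, mul_assoc, hrn, ← mul_assoc]
      calc (T * n + r) * (T * n + r) = T * n * (T * n) + (T * n * r + r * (T * n)) + r * r := by
            rw [mul_add (T * n + r), add_mul (T * n), add_mul (T * n)]; abel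
        _ = _ := by rw [a1, a2, ← mul_add (T * n) r r]
    rw [e3, hr2, hrr, mul_zero, add_zero, add_zero, hnn] at e1
    calc T * T * (n + n) = T * n + r + (T * n + r) := e1
      _ = T * n + T * n + (r + r) := by abel
      _ = _ := by rw [hr2, add_zero]
  have hu : x * x - x ≠ 0 := by
    rw [sub_ne_zero]; intro h; exact hx1 (mul_left_cancel₀ hx (by rw [h, mul_one]))
  obtain ⟨i, hi⟩ := hgen _ (inv_ne_zero hu)
  have hone : π (X ^ i * (T * T - T)) = π 1 := by
    rw [map_mul, map_sub, map_mul, hT, map_pow, map_pow, hscq, ← map_pow L.Φ, ← map_pow L.Φ,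
      FiniteField.pow_card, ← map_mul L.Φ, ← map_sub, ← map_mul L.Φ, hi, inv_mul_cancel₀ hu,
      map_one, map_one]
  have hn2 : n + n = 0 := by
    calc n + n = (1 + 1) * n := by noncomm_ring
      _ = (X ^ i * (T * T - T) + X ^ i * (T * T - T)) * n := by rw [hdie hone]
      _ = X ^ i * (T * T * (n + n) - (T * n + T * n)) := by noncomm_ring
      _ = 0 := by rw [hkey, sub_self, mul_zero]
  have h11 : (1 : AddMonoid.End M) + 1 = 0 := by
    set W := ρ (lo (1 : K))
    calc (1 : AddMonoid.End M) + 1 = -((U * W + W * U) + (U * W + W * U)) := by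
          rw [anti_one hρ]; abel
      _ = -((n + n) * W + W * (n + n) - (W + W + (W + W))) := by rw [hn]; noncomm_ring
      _ = 0 := by rw [hn2, hz4]; simp
  exact DFunLike.congr_fun h11 v

theorem add_self_eq_zero [Fintype K] (hK : 4 ∣ Fintype.card K) {ρ : SL(2, K) →* AddMonoid.End M}
    (hρ : IsFpf ρ) {k : ℕ} (hM : ∀ v : M, 2 ^ k • v = 0) (v : M) : v + v = 0 := by
  have h := two_torsion_step hK (isFpf_quot hρ 4) fun v =>
    QuotientAddGroup.induction_on v fun w => by
      rw [← QuotientAddGroup.mk_nsmul]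
      exact (QuotientAddGroup.eq_zero_iff _).2 ⟨w, rfl⟩
  have hstep : ∀ w : M, ∃ u, 4 • u = w + w := fun w => by
    have := h (w : M ⧸ mulRange M 4)
    rw [← QuotientAddGroup.mk_add] at this
    exact (QuotientAddGroup.eq_zero_iff _).1 this
  have hall : ∀ j : ℕ, ∀ w : M, ∃ u, 2 ^ (j + 1) • u = w + w := by
    intro j
    induction j with
    | zero => intro w; exact ⟨w, by rw [pow_one, two_nsmul]⟩
    | succ j ih =>
      intro w
      obtain ⟨u, hu⟩ := hstep w
      obtain ⟨t, ht⟩ := ih u
      exact ⟨t, by rw [pow_succ, mul_comm, mul_nsmul', ht, ← hu]; abel⟩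
  obtain ⟨u, hu⟩ := hall k v
  rw [← hu, pow_succ, mul_nsmul, hM, nsmul_zero]

end CfsgLib.SLTwoFpf
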