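import Cfsg.Agent.Lib.SLTwoFpf.Elements

/-!
Modules killed by 2 for `SL(2, 2ⁿ)` on which the elements of order 3 are fixed-point-free are
natural: the action extends to a ring of 2x2 matrices over `K` (helper62).
-/

set_option autoImplicit false
set_option linter.unusedSectionVars false

namespace CfsgLib.SLTwoFpf

open MatrixGroups

variable {K : Type*} [Field K] [CharP K 2] {M : Type*} [AddCommGroup M]

/-- `1 + g + g² = 0` for all elements of order 3 -/
def IsFpf (ρ : SL(2, K) →* AddMonoid.End M) : Prop :=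
  ∀ g : SL(2, K), g ^ 3 = 1 → g ≠ 1 → 1 + ρ g + ρ g * ρ g = 0

variable {ρ : SL(2, K) →* AddMonoid.End M}

theorem up_sq (a : K) : ρ (up a) * ρ (up a) = 1 := by
  rw [← map_mul, up_mul, CharTwo.add_self_eq_zero, up_zero, map_one]

theorem lo_sq (a : K) : ρ (lo a) * ρ (lo a) = 1 := by
  rw [← map_mul, lo_mul, CharTwo.add_self_eq_zero,
    show lo (0 : K) = 1 by apply sl_ext <;> simp, map_one]

theorem up_comm (a b : K) : ρ (up a) * ρ (up b) = ρ (up b) * ρ (up a) := by
  rw [← map_mul, ← map_mul, up_mul, up_mul, add_comm]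

theorem lo_comm (a b : K) : ρ (lo a) * ρ (lo b) = ρ (lo b) * ρ (lo a) := by
  rw [← map_mul, ← map_mul, lo_mul, lo_mul, add_comm]

theorem anti (hρ : IsFpf ρ) {a : K} (ha : a ≠ 0) :
    ρ (up a) * ρ (lo a⁻¹) + ρ (lo a⁻¹) * ρ (up a) = -1 := by
  have h3 := up_mul_lo_cube ha
  have h := hρ _ h3 (up_mul_lo_ne_one ha)
  have hgg : up a * lo a⁻¹ * (up a * lo a⁻¹) = lo a⁻¹ * up a := by
    rw [pow_succ, pow_two] at h3
    refine mul_right_cancel (b := up a * lo a⁻¹) (h3.trans (Eq.symm ?_))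
    calc lo a⁻¹ * up a * (up a * lo a⁻¹) = lo a⁻¹ * (up a * up a) * lo a⁻¹ := by
          simp only [mul_assoc]
      _ = 1 := by
          rw [up_mul, CharTwo.add_self_eq_zero, up_zero, mul_one, lo_mul, CharTwo.add_self_eq_zero]
          apply sl_ext <;> simp
  rw [← map_mul ρ (up a * lo a⁻¹), hgg, map_mul, map_mul, add_assoc] at h
  exact eq_neg_of_add_eq_zero_right h

theorem anti_one (hρ : IsFpf ρ) :
    ρ (up (1 : K)) * ρ (lo 1) + ρ (lo 1) * ρ (up (1 : K)) = -1 := by
  simpa using anti hρ (one_ne_zero (α := K))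

variable (ρ) in
/-- the scalar attached to `x` -/
def sc (x : K) : AddMonoid.End M := ρ (up x) * ρ (lo 1) + ρ (lo 1) * ρ (up x)

theorem sc_up_self (x : K) : sc ρ x * ρ (up x) = ρ (up x) * sc ρ x := by
  simp only [sc, mul_add, add_mul, ← mul_assoc, up_sq, one_mul]
  simp only [mul_assoc, up_sq, mul_one]
  abel

theorem sc_lo_one (x : K) : sc ρ x * ρ (lo 1) = ρ (lo 1) * sc ρ x := by
  simp only [sc, mul_add, add_mul, ← mul_assoc, lo_sq, one_mul]
  simp only [mul_assoc, lo_sq, mul_one]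
  abel

theorem sc_anti_up (hρ : IsFpf ρ) (x : K) :
    ρ (up 1) * sc ρ x + sc ρ x * ρ (up 1) = -ρ (up x) + -ρ (up x) := by
  calc ρ (up 1) * sc ρ x + sc ρ x * ρ (up 1)
      = ρ (up x) * (ρ (up 1) * ρ (lo 1) + ρ (lo 1) * ρ (up 1)) +
        (ρ (up 1) * ρ (lo 1) + ρ (lo 1) * ρ (up 1)) * ρ (up x) +
        ((ρ (up 1) * ρ (up x) - ρ (up x) * ρ (up 1)) * ρ (lo 1) +
          ρ (lo 1) * (ρ (up x) * ρ (up 1) - ρ (up 1) * ρ (up x))) := by
        rw [sc]; noncomm_ring
    _ = -ρ (up x) + -ρ (up x) := by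
        rw [anti_one hρ, up_comm 1 x, sub_self, zero_mul, mul_zero]; noncomm_ring

theorem sc_anti_lo (hρ : IsFpf ρ) {x : K} (hx : x ≠ 0) :
    ρ (lo x⁻¹) * sc ρ x + sc ρ x * ρ (lo x⁻¹) = -ρ (lo 1) + -ρ (lo 1) := by
  calc ρ (lo x⁻¹) * sc ρ x + sc ρ x * ρ (lo x⁻¹)
      = (ρ (up x) * ρ (lo x⁻¹) + ρ (lo x⁻¹) * ρ (up x)) * ρ (lo 1) +
        ρ (lo 1) * (ρ (up x) * ρ (lo x⁻¹) + ρ (lo x⁻¹) * ρ (up x)) +
        ((ρ (lo x⁻¹) * ρ (lo 1) - ρ (lo 1) * ρ (lo x⁻¹)) * ρ (up x) +
          ρ (up x) * (ρ (lo 1) * ρ (lo x⁻¹) - ρ (lo x⁻¹) * ρ (lo 1))) := by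
        rw [sc]; noncomm_ring
    _ = -ρ (lo 1) + -ρ (lo 1) := by
        rw [anti hρ hx, lo_comm x⁻¹ 1, sub_self, zero_mul, mul_zero]; noncomm_ring

/-- the linear structure -/
structure Lin (ρ : SL(2, K) →* AddMonoid.End M) where
  Φ : K →+* AddMonoid.End M
  comm : ∀ (a : K) (g : SL(2, K)), Φ a * ρ g = ρ g * Φ a
  up_eq : ∀ a : K, ρ (up a) = 1 + Φ a * (ρ (up 1) + 1)
  lo_eq : ∀ a : K, ρ (lo a) = 1 + Φ a * (ρ (lo 1) + 1)
  anti : (ρ (up (1 : K)) + 1) * (ρ (lo 1) + 1) + (ρ (lo 1) + 1) * (ρ (up 1) + 1) = 1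
  sc_eq : ∀ a : K, sc ρ a = Φ a

theorem exists_pow_generator [Finite K] :
    ∃ x : K, x ≠ 0 ∧ ∀ a : K, a ≠ 0 → ∃ k : ℕ, x ^ k = a := by
  obtain ⟨g, hg⟩ := IsCyclic.exists_generator (α := Kˣ)
  refine ⟨g, Units.ne_zero g, fun a ha => ?_⟩
  obtain ⟨k, hk⟩ := mem_powers_iff_mem_zpowers.2 (hg (Units.mk0 a ha))
  exact ⟨k, by simpa using congrArg Units.val hk⟩

section Two

variable (hρ : IsFpf ρ) (h2 : ∀ f : AddMonoid.End M, f + f = 0)

include h2 in
theorem negeq (f : AddMonoid.End M) : -f = f := (eq_neg_of_add_eq_zero_left (h2 f)).symm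

include h2 in
theorem eq_of_add {f g : AddMonoid.End M} (h : f + g = 0) : f = g := by
  rw [eq_neg_of_add_eq_zero_left h, negeq h2]

theorem mem_of_comm_up {f : AddMonoid.End M} (hu : ∀ a : K, f * ρ (up a) = ρ (up a) * f)
    (hw : f * ρ (lo (1 : K)) = ρ (lo 1) * f) (g : SL(2, K)) : f * ρ g = ρ g * f := by
  let H : Subgroup SL(2, K) :=
    { carrier := {g | f * ρ g = ρ g * f}
      one_mem' := by simp
      mul_mem' := fun {a b} (ha : f * ρ a = ρ a * f) (hb : f * ρ b = ρ b * f) => by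
        show f * ρ (a * b) = ρ (a * b) * f
        rw [map_mul, ← mul_assoc, ha, mul_assoc, hb, ← mul_assoc]
      inv_mem' := fun {a} (ha : f * ρ a = ρ a * f) => by
        show f * ρ a⁻¹ = ρ a⁻¹ * f
        calc f * ρ a⁻¹ = ρ a⁻¹ * (ρ a * f) * ρ a⁻¹ := by
              rw [← mul_assoc (ρ a⁻¹), ← map_mul, inv_mul_cancel, map_one, one_mul]
          _ = ρ a⁻¹ * f * (ρ a * ρ a⁻¹) := by rw [← ha]; simp only [mul_assoc]
          _ = _ := by rw [← map_mul, mul_inv_cancel, map_one, mul_one] }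
  have hu' : ∀ a : K, up a ∈ H := hu
  refine mem_of_transvections (H := H) hu' (fun a => ?_) g
  rw [← wy_mul_up a]
  have hwy : (wy : SL(2, K)) ∈ H := mul_mem (mul_mem (hu' 1) hw) (hu' 1)
  exact mul_mem (mul_mem hwy (hu' a)) hwy

include hρ h2 in
theorem sc_central [Finite K] {x : K} (hx : x ≠ 0) (hgen : ∀ a : K, a ≠ 0 → ∃ k : ℕ, x ^ k = a)
    (g : SL(2, K)) : sc ρ x * ρ g = ρ g * sc ρ x := by
  have hcomm : ∀ {A B : AddMonoid.End M}, A * sc ρ x + sc ρ x * A = -B + -B →
      sc ρ x * A = A * sc ρ x := by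
    intro A B h
    rw [h2] at h
    exact (eq_of_add h2 h).symm
  have h1 : sc ρ x * ρ (up 1) = ρ (up 1) * sc ρ x := hcomm (sc_anti_up hρ x)
  have hw := sc_lo_one (ρ := ρ) x
  have hd : sc ρ x * ρ (dg x) = ρ (dg x) * sc ρ x := by
    have hl : sc ρ x * ρ (lo x⁻¹) = ρ (lo x⁻¹) * sc ρ x := hcomm (sc_anti_lo hρ hx)
    have := (((show Commute (sc ρ x) (ρ (up x)) from sc_up_self x).mul_right hl).mul_right
      (sc_up_self x)).mul_right (((show Commute (sc ρ x) (ρ (up 1)) from h1).mul_right hw).mul_right h1)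
    simpa only [dg, wy, map_mul, Commute, SemiconjBy] using this
  have hpow : ∀ k : ℕ, sc ρ x * ρ (up (x ^ k * x ^ k)) = ρ (up (x ^ k * x ^ k)) * sc ρ x := by
    intro k
    induction k with
    | zero => simpa using h1
    | succ k ih =>
      have e : up (x ^ (k + 1) * x ^ (k + 1)) = dg x * up (x ^ k * x ^ k) * (dg x)⁻¹ := by
        rw [dg_mul_up hx, mul_inv_cancel_right, pow_succ]; congr 1; ring
      have hd' : sc ρ x * ρ (dg x)⁻¹ = ρ (dg x)⁻¹ * sc ρ x := by
        calc sc ρ x * ρ (dg x)⁻¹ = ρ (dg x)⁻¹ * (ρ (dg x) * sc ρ x) * ρ (dg x)⁻¹ := by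
              rw [← mul_assoc (ρ (dg x)⁻¹), ← map_mul, inv_mul_cancel, map_one, one_mul]
          _ = ρ (dg x)⁻¹ * sc ρ x * (ρ (dg x) * ρ (dg x)⁻¹) := by
              rw [← hd]; simp only [mul_assoc]
          _ = _ := by rw [← map_mul, mul_inv_cancel, map_one, mul_one]
      rw [e, map_mul, map_mul]
      exact (((show Commute (sc ρ x) _ from hd).mul_right ih).mul_right hd').eq
  refine mem_of_comm_up (fun a => ?_) hw g
  by_cases ha : a = 0
  · simp [ha]
  obtain ⟨b, rfl⟩ := FiniteField.isSquare_of_char_two (ringChar.eq K 2) a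
  obtain ⟨k, rfl⟩ := hgen b (left_ne_zero_of_mul ha)
  exact hpow k

include hρ h2 in
theorem exists_lin [Finite K] {x : K} (hx : x ≠ 0) (hx1 : x ≠ 1)
    (hgen : ∀ a : K, a ≠ 0 → ∃ k : ℕ, x ^ k = a) : Nonempty (Lin ρ) := by
  have hneg := negeq h2
  let X := sc ρ x
  have hX : ∀ g, X * ρ g = ρ g * X := sc_central hρ h2 hx hgen
  let n : K → AddMonoid.End M := fun a => ρ (up a) + 1
  let W := ρ (lo (1 : K))
  have hXn : ∀ a, X * n a = n a * X := fun a => by
    simp only [n, mul_add, add_mul, mul_one, one_mul, hX]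
  have hn0 : n 0 = 0 := by simp only [n, up_zero, map_one, h2]
  have hnn : ∀ a, n a * n a = 0 := fun a => by
    calc n a * n a = ρ (up a) * ρ (up a) + (ρ (up a) + ρ (up a)) + 1 := by
          simp only [n, mul_add, add_mul, mul_one, one_mul]; abel
      _ = 0 := by rw [up_sq, h2, add_zero, h2]
  have hnc : ∀ a b, n a * n b = n b * n a := fun a b => by
    simp only [n, mul_add, add_mul, mul_one, one_mul, up_comm a b]; abel
  have hnadd : ∀ a b, n (a + b) = n a + n b + n a * n b := fun a b => by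
    calc n (a + b) = ρ (up a) * ρ (up b) + 1 := by simp only [n, ← up_mul, map_mul]
      _ = ρ (up a) * ρ (up b) + 1 + ((ρ (up a) + ρ (up a)) + (ρ (up b) + ρ (up b)) + (1 + 1)) := by
          rw [h2 (ρ (up a)), h2 (ρ (up b)), h2 1]; simp
      _ = _ := by simp only [n, mul_add, add_mul, mul_one, one_mul]; abel
  have hnW : ∀ a, n a * W + W * n a = sc ρ a := fun a => by
    calc n a * W + W * n a = sc ρ a + (W + W) := by
          simp only [n, sc, W, mul_add, add_mul, mul_one, one_mul]; abel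
      _ = _ := by rw [h2, add_zero]
  have hsc1 : sc ρ (1 : K) = 1 := by rw [sc, anti_one hρ, hneg]
  let z := n x + X * n 1
  have hzc : ∀ g, z * ρ g = ρ g * z := by
    refine fun g => mem_of_comm_up (fun a => ?_) ?_ g
    · have hc : ∀ b, n b * ρ (up a) = ρ (up a) * n b := fun b => by
        simp only [n, mul_add, add_mul, mul_one, one_mul, up_comm b a]
      exact ((show Commute (n x) (ρ (up a)) from hc x).add_left
        ((show Commute X (ρ (up a)) from hX _).mul_left (hc 1))).eq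
    · show z * W = W * z
      refine eq_of_add h2 ?_
      calc z * W + W * z = (n x * W + W * n x) + X * (n 1 * W + W * n 1) +
            (W * X - X * W) * n 1 := by simp only [z]; noncomm_ring
        _ = 0 := by rw [hnW, hnW, hsc1, mul_one, hX, sub_self, zero_mul, add_zero]; exact h2 _
  have hscale : ∀ a, a ≠ 0 → n (x * a) = X * n a + z := by
    intro a ha
    obtain ⟨l, rfl⟩ := FiniteField.isSquare_of_char_two (ringChar.eq K 2) a
    have hl : l ≠ 0 := left_ne_zero_of_mul ha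
    have hD : ∀ b, ρ (dg l) * n b = n (l * l * b) * ρ (dg l) := fun b => by
      simp only [n, mul_add, add_mul, mul_one, one_mul, ← map_mul, dg_mul_up hl]
    have e : (n (x * (l * l)) + X * n (l * l)) * ρ (dg l) = z * ρ (dg l) := by
      rw [hzc]
      simp only [z, mul_add, add_mul]
      rw [← mul_assoc (ρ (dg l)) X, ← hX, mul_assoc X (ρ (dg l)), hD, hD, mul_one, ← mul_assoc X,
        mul_comm (l * l) x]
    have e2 := congrArg (· * ρ (dg l)⁻¹) e
    simp only [mul_assoc, ← map_mul, mul_inv_cancel, map_one, mul_one] at e2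
    rw [← e2]
    calc n (x * (l * l)) = n (x * (l * l)) + (X * n (l * l) + X * n (l * l)) := by
          rw [h2, add_zero]
      _ = _ := by abel
  have hz : z = 0 := by
    have e1 : n x = X * n 1 + z := by simpa using hscale 1 one_ne_zero
    have h1x : (1 : K) + x ≠ 0 := fun h => hx1 (CharTwo.add_eq_zero.1 h).symm
    have e2 := hscale (1 + x) h1x
    rw [mul_add, mul_one, hnadd, hscale x hx, hnadd 1 x] at e2
    have hzz : z * z = 0 := by
      calc z * z = n x * n x + (n x * (X * n 1) + (X * n 1) * n x) + X * n 1 * (X * n 1) := by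
            simp only [z]; noncomm_ring
        _ = 0 := by
            rw [hnn, ← mul_assoc (n x) X, ← hXn, mul_assoc X (n x), hnc x 1, ← mul_assoc, h2,
              mul_assoc X (n 1), ← mul_assoc (n 1) X, ← hXn, mul_assoc X (n 1) (n 1), hnn]
            simp
    have h3 : n x * (X * n x + z) = n x * z := by
      rw [mul_add, ← mul_assoc, ← hXn, mul_assoc, hnn, mul_zero, zero_add]
    have h4 : X * (n 1 * n x) = X * n 1 * z := by
      rw [e1, mul_add, ← mul_assoc (n 1) X, ← hXn, mul_assoc X (n 1) (n 1), hnn, mul_zero, zero_add,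
        mul_assoc]
    rw [h3, mul_add X (n 1 + n x) _, mul_add X (n 1) (n x), h4] at e2
    have h5 : n x * z = X * n 1 * z := by rw [e1, add_mul, hzz, add_zero]
    rw [h5] at e2
    have h6 : n x = X * n 1 := by
      refine add_right_cancel (b := X * n x + z + X * n 1 * z) ?_
      calc n x + (X * n x + z + X * n 1 * z) = n x + (X * n x + z) + X * n 1 * z := by abel
        _ = X * n 1 + X * n x + X * n 1 * z + z := e2
        _ = _ := by abel
    rwa [h6, left_eq_add] at e1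
  have hscale' : ∀ a, n (x * a) = X * n a := by
    intro a
    by_cases ha : a = 0
    · rw [ha, mul_zero, hn0, mul_zero]
    · rw [hscale a ha, hz, add_zero]
  have hpow : ∀ k : ℕ, n (x ^ k) = X ^ k * n 1 := by
    intro k
    induction k with
    | zero => simp
    | succ k ih => rw [pow_succ', hscale', ih, pow_succ', mul_assoc]
  have hprod : ∀ a b, n a * n b = 0 := by
    intro a b
    by_cases ha : a = 0
    · rw [ha, hn0, zero_mul]
    by_cases hb : b = 0
    · rw [hb, hn0, mul_zero]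
    obtain ⟨i, rfl⟩ := hgen a ha
    obtain ⟨j, rfl⟩ := hgen b hb
    rw [hpow, hpow, mul_assoc, ← mul_assoc (n 1),
      ← ((show Commute X (n 1) from hXn 1).pow_left j).eq, mul_assoc (X ^ j), hnn, mul_zero, mul_zero]
  have hscpow : ∀ k : ℕ, sc ρ (x ^ k) = X ^ k := by
    intro k
    have hXk := ((show Commute X W from hX _).pow_left k).eq
    rw [← hnW, hpow, ← mul_assoc W, ← hXk, mul_assoc, mul_assoc, ← mul_add, hnW, hsc1, mul_one]
  have hadd : ∀ a b, sc ρ (a + b) = sc ρ a + sc ρ b := fun a b => by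
    simp only [← hnW, hnadd, hprod, add_zero, add_mul, mul_add]; abel
  have hsc0 : sc ρ (0 : K) = 0 := by rw [← hnW, hn0, zero_mul, mul_zero, add_zero]
  let Φ : K →+* AddMonoid.End M :=
    { toFun := sc ρ
      map_one' := hsc1
      map_zero' := hsc0
      map_add' := hadd
      map_mul' := fun a b => by
        by_cases ha : a = 0
        · rw [ha, zero_mul, hsc0, zero_mul]
        by_cases hb : b = 0
        · rw [hb, mul_zero, hsc0, mul_zero]
        obtain ⟨i, rfl⟩ := hgen a ha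
        obtain ⟨j, rfl⟩ := hgen b hb
        rw [← pow_add, hscpow, hscpow, hscpow, pow_add] }
  have hΦc : ∀ a g, Φ a * ρ g = ρ g * Φ a := by
    intro a g
    show sc ρ a * ρ g = ρ g * sc ρ a
    by_cases ha : a = 0
    · rw [ha, hsc0, zero_mul, mul_zero]
    obtain ⟨i, rfl⟩ := hgen a ha
    rw [hscpow]
    exact ((show Commute X (ρ g) from hX g).pow_left i).eq
  have hnΦ : ∀ a, n a = Φ a * n 1 := by
    intro a
    by_cases ha : a = 0
    · rw [ha, hn0, map_zero, zero_mul]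
    obtain ⟨i, rfl⟩ := hgen a ha
    show _ = sc ρ _ * _
    rw [hscpow, hpow]
  have hup : ∀ a, ρ (up a) = 1 + Φ a * (ρ (up 1) + 1) := fun a => by
    show _ = 1 + Φ a * n 1
    rw [← hnΦ]
    calc ρ (up a) = ρ (up a) + (1 + 1) := by rw [h2, add_zero]
      _ = _ := by simp only [n]; abel
  have hS : ρ (wy : SL(2, K)) * ρ wy = 1 := by
    have e : (wy : SL(2, K)) * wy = 1 := by
      have := wy_mul_up (0 : K)
      rw [up_zero, mul_one] at this
      rw [this]; apply sl_ext <;> simp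
    rw [← map_mul, e, map_one]
  refine ⟨⟨Φ, hΦc, hup, fun a => ?_, ?_, fun a => rfl⟩⟩
  · have e : ρ (lo (1 : K)) + 1 = ρ wy * (ρ (up 1) + 1) * ρ wy := by
      rw [mul_add, add_mul, mul_one, hS, ← map_mul, ← map_mul, wy_mul_up]
    rw [e, ← wy_mul_up a, map_mul, map_mul, hup a, mul_add, add_mul, mul_one, hS]
    simp only [← mul_assoc]
    rw [hΦc a wy]
  · show n 1 * (W + 1) + (W + 1) * n 1 = 1
    calc n 1 * (W + 1) + (W + 1) * n 1 = (n 1 * W + W * n 1) + (n 1 + n 1) := by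
          simp only [mul_add, add_mul, mul_one, one_mul]; abel
      _ = 1 := by rw [hnW, hsc1, h2, add_zero]

end Two

end CfsgLib.SLTwoFpf
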