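import Cfsg.Agent.Lib.SLTwoFpf.Exponent

/-!
Higman: a finite abelian 2-group on which `SL(2, 2ⁿ)`, `n ≥ 2`, acts with fixed-point-free elements
of order 3 is a direct sum of natural modules; no nonzero equivariant biadditive maps (helper62).
-/

set_option autoImplicit false
set_option linter.unusedSectionVars false

namespace CfsgLib.SLTwoFpf

open MatrixGroups

variable {K : Type*} [Field K] [CharP K 2] {M : Type*} [AddCommGroup M]

theorem exists_natural [Fintype K] [Finite M] (hK : 4 ∣ Fintype.card K)
    {ρ : SL(2, K) →* AddMonoid.End M} (hρ : IsFpf ρ) {k : ℕ} (hM : ∀ v : M, 2 ^ k • v = 0) :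
    ∃ (r : ℕ) (Ψ : (Fin r → Fin 2 → K) ≃+ M),
      ∀ (g : SL(2, K)) (c : Fin r → Fin 2 → K), ρ g (Ψ c) = Ψ fun i => g.1.mulVec (c i) := by
  classical
  obtain ⟨x, hx, hgen⟩ := exists_pow_generator (K := K)
  have hx1 : x ≠ 1 := by
    intro h
    have h2 : Fintype.card K ≤ 2 := by
      rw [← Finset.card_univ]
      refine le_trans (Finset.card_le_card fun a _ => ?_) (Finset.card_le_two (a := (0 : K)) (b := 1))
      by_cases ha : a = 0
      · simp [ha]
      · obtain ⟨j, rfl⟩ := hgen a ha
        simp [h]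
    have := Nat.le_of_dvd Fintype.card_pos hK
    omega
  have htwo : ∀ v : M, v + v = 0 := add_self_eq_zero hK hρ hM
  have h2 : ∀ f : AddMonoid.End M, f + f = 0 := fun f => AddMonoidHom.ext fun v => htwo (f v)
  obtain ⟨L⟩ := exists_lin hρ h2 hx hx1 hgen
  let _ : Module K M := Module.compHom M L.Φ
  have hsmul : ∀ (a : K) (v : M), a • v = L.Φ a v := fun _ _ => rfl
  set P : AddMonoid.End M := ρ (up 1) + 1 with hP
  set R : AddMonoid.End M := ρ (lo 1) + 1 with hR
  have hPP : ∀ v, P (P v) = 0 := by
    intro v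
    have e : P * P = 0 := by
      calc P * P = ρ (up 1) * ρ (up 1) + (ρ (up 1) + ρ (up 1)) + 1 := by rw [hP]; noncomm_ring
        _ = 0 := by rw [up_sq, h2, add_zero, h2]
    exact DFunLike.congr_fun e v
  have hRR : ∀ v, R (R v) = 0 := by
    intro v
    have e : R * R = 0 := by
      calc R * R = ρ (lo 1) * ρ (lo 1) + (ρ (lo 1) + ρ (lo 1)) + 1 := by rw [hR]; noncomm_ring
        _ = 0 := by rw [lo_sq, h2, add_zero, h2]
    exact DFunLike.congr_fun e v
  have hPR : ∀ v, P (R v) + R (P v) = v := fun v => DFunLike.congr_fun L.anti v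
  have hlin : ∀ (g : SL(2, K)) (a : K) (v : M), ρ g (a • v) = a • ρ g v := fun g a v =>
    DFunLike.congr_fun (L.comm a g).symm v
  have hPlin : ∀ (a : K) (v : M), P (a • v) = a • P v := fun a v => by
    show ρ (up 1) (a • v) + a • v = a • (ρ (up 1) v + v)
    rw [hlin, smul_add]
  have hRlin : ∀ (a : K) (v : M), R (a • v) = a • R v := fun a v => by
    show ρ (lo 1) (a • v) + a • v = a • (ρ (lo 1) v + v)
    rw [hlin, smul_add]
  let C : Submodule K M :=
    { carrier := {v | P v = 0}
      add_mem' := fun {a b} (ha : P a = 0) (hb : P b = 0) => by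
        show P (a + b) = 0
        rw [map_add, ha, hb, add_zero]
      zero_mem' := map_zero P
      smul_mem' := fun a v (hv : P v = 0) => by
        show P (a • v) = 0
        rw [hPlin, hv, smul_zero] }
  have : Module.Finite K C := Module.Finite.of_finite
  let b := Module.finBasis K C
  let pair : C × C ≃+ M :=
    { toFun := fun w => (w.1 : M) + R w.2
      invFun := fun v => (⟨v + R (P v), by
        show P (v + R (P v)) = 0
        rw [map_add]
        calc P v + P (R (P v)) = P v + (P (R (P v)) + R (P (P v))) := by rw [hPP, map_zero, add_zero]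
          _ = 0 := by rw [hPR, htwo]⟩, ⟨P v, hPP v⟩)
      left_inv := fun w => by
        obtain ⟨⟨w1, h1 : P w1 = 0⟩, ⟨w2, h3 : P w2 = 0⟩⟩ := w
        have e : P (w1 + R w2) = w2 := by
          rw [map_add, h1, zero_add]
          simpa [h3] using hPR w2
        refine Prod.ext (Subtype.ext ?_) (Subtype.ext e)
        show w1 + R w2 + R (P (w1 + R w2)) = w1
        rw [e, add_assoc, htwo, add_zero]
      right_inv := fun v => by
        show v + R (P v) + R (P v) = v
        rw [add_assoc, htwo, add_zero]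
      map_add' := fun w w' => by
        show ((w.1 + w'.1 : C) : M) + R ((w.2 + w'.2 : C) : M) = _
        rw [Submodule.coe_add, Submodule.coe_add, map_add]; abel }
  let split : (Fin (Module.finrank K C) → Fin 2 → K) ≃+ C × C :=
    { toFun := fun c => (b.equivFun.symm fun i => c i 0, b.equivFun.symm fun i => c i 1)
      invFun := fun w i => ![b.equivFun w.1 i, b.equivFun w.2 i]
      left_inv := fun c => by
        funext i j
        fin_cases j
        · simpa using congrFun (b.equivFun.apply_symm_apply fun i => c i 0) i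
        · simpa using congrFun (b.equivFun.apply_symm_apply fun i => c i 1) i
      right_inv := fun w => by simp
      map_add' := fun c c' => Prod.ext
        (map_add b.equivFun.symm (fun i => c i 0) (fun i => c' i 0))
        (map_add b.equivFun.symm (fun i => c i 1) (fun i => c' i 1)) }
  refine ⟨_, split.trans pair, ?_⟩
  have hval : ∀ c, (split.trans pair) c =
      ((b.equivFun.symm fun i => c i 0 : C) : M) + R ((b.equivFun.symm fun i => c i 1 : C) : M) :=
    fun _ => rfl
  have hsm : ∀ (a : K) (u v : Fin (Module.finrank K C) → K),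
      ((b.equivFun.symm (fun i => u i + a * v i) : C) : M) =
        (b.equivFun.symm u : C) + a • ((b.equivFun.symm v : C) : M) := fun a u v => by
    rw [← Submodule.coe_smul, ← Submodule.coe_add, ← map_smul, ← map_add]; rfl
  have hup : ∀ (a : K) c, ρ (up a) ((split.trans pair) c) =
      (split.trans pair) fun i => (up a).1.mulVec (c i) := by
    intro a c
    rw [hval, hval]
    have h1 : P ((b.equivFun.symm fun i => c i 0 : C) : M) = 0 := (b.equivFun.symm fun i => c i 0).2
    have h3 : P ((b.equivFun.symm fun i => c i 1 : C) : M) = 0 := (b.equivFun.symm fun i => c i 1).2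
    have e0 : ∀ i, (up a).1.mulVec (c i) 0 = c i 0 + a * c i 1 := fun i => by
      simp [Matrix.mulVec, dotProduct, Fin.sum_univ_two]
    have e1 : ∀ i, (up a).1.mulVec (c i) 1 = c i 1 := fun i => by
      simp [Matrix.mulVec, dotProduct, Fin.sum_univ_two]
    simp only [e0, e1, hsm]
    have e3 : P (R ((b.equivFun.symm fun i => c i 1 : C) : M)) = (b.equivFun.symm fun i => c i 1 : C) := by
      have h := hPR ((b.equivFun.symm fun i => c i 1 : C) : M)
      rwa [h3, map_zero, add_zero] at h
    rw [L.up_eq a]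
    show ((b.equivFun.symm fun i => c i 0 : C) : M) + R ((b.equivFun.symm fun i => c i 1 : C) : M) + a • (P _) = _
    rw [map_add, h1, zero_add, e3]
    abel
  have hlo : ∀ (a : K) c, ρ (lo a) ((split.trans pair) c) =
      (split.trans pair) fun i => (lo a).1.mulVec (c i) := by
    intro a c
    rw [hval, hval]
    have e0 : ∀ i, (lo a).1.mulVec (c i) 0 = c i 0 := fun i => by
      simp [Matrix.mulVec, dotProduct, Fin.sum_univ_two]
    have e1 : ∀ i, (lo a).1.mulVec (c i) 1 = c i 1 + a * c i 0 := fun i => by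
      simp [Matrix.mulVec, dotProduct, Fin.sum_univ_two, add_comm]
    simp only [e0, e1, hsm]
    rw [L.lo_eq a]
    show ((b.equivFun.symm fun i => c i 0 : C) : M) + R ((b.equivFun.symm fun i => c i 1 : C) : M) + a • (R _) = _
    rw [map_add R, hRR, add_zero, map_add, hRlin]
    abel
  intro g c
  let H : Subgroup SL(2, K) :=
    { carrier := {g | ∀ c, ρ g ((split.trans pair) c) = (split.trans pair) fun i => g.1.mulVec (c i)}
      one_mem' := fun c => by simp
      mul_mem' := fun {g g'} (hg : ∀ c, _) (hg' : ∀ c, _) c => by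
        rw [map_mul]
        show ρ g (ρ g' _) = _
        rw [hg', hg]
        simp only [Matrix.mulVec_mulVec, Matrix.SpecialLinearGroup.coe_mul]
      inv_mem' := fun {g} (hg : ∀ c, _) c => by
        have h := hg fun i => (g⁻¹).1.mulVec (c i)
        have e : (fun i => g.1.mulVec ((g⁻¹).1.mulVec (c i))) = c := by
          funext i
          rw [Matrix.mulVec_mulVec, ← Matrix.SpecialLinearGroup.coe_mul, mul_inv_cancel,
            Matrix.SpecialLinearGroup.coe_one, Matrix.one_mulVec]
        rw [e] at h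
        conv_lhs => rw [← h]
        show (ρ g⁻¹ * ρ g) _ = _
        rw [← map_mul, inv_mul_cancel, map_one]
        rfl }
  exact mem_of_transvections (H := H) hup hlo g c

theorem coe_dg {l : K} (hl : l ≠ 0) : (dg l : Matrix (Fin 2) (Fin 2) K) = !![l, 0; 0, l⁻¹] := by
  ext i j
  fin_cases i <;> fin_cases j <;>
    simp [dg, wy, Matrix.mul_apply, Fin.sum_univ_two, hl, CharTwo.add_self_eq_zero]

theorem coe_wy : (wy : SL(2, K)).1 = (!![0, 1; 1, 0] : Matrix (Fin 2) (Fin 2) K) := by
  ext i j
  fin_cases i <;> fin_cases j <;>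
    simp [wy, Matrix.mul_apply, Fin.sum_univ_two, CharTwo.add_self_eq_zero]

/-- no nonzero equivariant biadditive map between natural modules -/
theorem natural_biadd_eq_zero (hK : ∃ l : K, l ≠ 0 ∧ l ≠ 1)
    (f : (Fin 2 → K) → (Fin 2 → K) → (Fin 2 → K))
    (hl : ∀ u u' w, f (u + u') w = f u w + f u' w) (hr : ∀ u w w', f u (w + w') = f u w + f u w')
    (he : ∀ (g : SL(2, K)) u w, f (g.1.mulVec u) (g.1.mulVec w) = g.1.mulVec (f u w))
    (u w : Fin 2 → K) : f u w = 0 := by
  let E : K → Fin 2 → K := fun a => ![a, 0]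
  let F : K → Fin 2 → K := fun a => ![0, a]
  have hupE : ∀ a b, (up a).1.mulVec (E b) = E b := fun a b => by
    funext i; fin_cases i <;> simp [E, Matrix.mulVec, dotProduct, Fin.sum_univ_two]
  have hupF : ∀ a b, (up a).1.mulVec (F b) = E (a * b) + F b := fun a b => by
    funext i; fin_cases i <;> simp [E, F, Matrix.mulVec, dotProduct, Fin.sum_univ_two]
  have hloE : ∀ a b, (lo a).1.mulVec (E b) = E b + F (a * b) := fun a b => by
    funext i; fin_cases i <;> simp [E, F, Matrix.mulVec, dotProduct, Fin.sum_univ_two]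
  have hloF : ∀ a b, (lo a).1.mulVec (F b) = F b := fun a b => by
    funext i; fin_cases i <;> simp [F, Matrix.mulVec, dotProduct, Fin.sum_univ_two]
  have fix1 : ∀ y : Fin 2 → K, (up 1).1.mulVec y = y → y 1 = 0 := fun y h => by
    simpa [Matrix.mulVec, dotProduct, Fin.sum_univ_two] using congrFun h 0
  have fix0 : ∀ y : Fin 2 → K, (lo 1).1.mulVec y = y → y 0 = 0 := fun y h => by
    simpa [Matrix.mulVec, dotProduct, Fin.sum_univ_two] using congrFun h 1
  have hEE1 : ∀ a b, f (E a) (E b) 1 = 0 := fun a b => fix1 _ (by rw [← he, hupE, hupE])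
  have hR : ∀ a b, f (E a) (E b) 0 = b * f (E a) (F 1) 1 := fun a b => by
    have h := congrFun (he (up b) (E a) (F 1)) 0
    rw [hupE, hupF, hr, mul_one] at h
    simp [Matrix.mulVec, dotProduct, Fin.sum_univ_two] at h
    linear_combination h
  have hL : ∀ a b, f (E a) (E b) 0 = a * f (F 1) (E b) 1 := fun a b => by
    have h := congrFun (he (up a) (F 1) (E b)) 0
    rw [hupE, hupF, hl, mul_one] at h
    simp [Matrix.mulVec, dotProduct, Fin.sum_univ_two] at h
    linear_combination h
  have hsq : ∀ a b, f (E a) (E b) 0 = a * b * f (E 1) (E 1) 0 := fun a b => by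
    rw [hR a b, hR 1 1, one_mul]
    have h1 := hR a 1
    have h2 := hL a 1
    have h3 := hL 1 1
    have h4 := hR 1 1
    rw [one_mul] at h1 h3 h4
    linear_combination b * h2 - b * h1 - a * b * h3 + a * b * h4
  have hEE : ∀ a b, f (E a) (E b) = 0 := by
    obtain ⟨l, hl0, hl1⟩ := hK
    have h := congrFun (he (dg l) (E 1) (E 1)) 0
    have hd : (dg l).1.mulVec (E 1) = E l := by
      rw [coe_dg hl0]; funext i; fin_cases i <;> simp [E, Matrix.mulVec, dotProduct, Fin.sum_univ_two]
    rw [hd, hsq l l] at h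
    simp [coe_dg hl0, Matrix.mulVec, dotProduct, Fin.sum_univ_two] at h
    have h0 : f (E 1) (E 1) 0 = 0 := by
      by_contra hne
      exact hl1 (mul_left_cancel₀ hl0 (by rw [mul_one]; exact h.resolve_right hne))
    intro a b
    funext i
    fin_cases i
    · simp [hsq a b, h0]
    · simpa using hEE1 a b
  have hswap : ∀ b, (wy : SL(2, K)).1.mulVec (E b) = F b := fun b => by
    rw [coe_wy]; funext i; fin_cases i <;> simp [E, F, Matrix.mulVec, dotProduct, Fin.sum_univ_two]
  have hFF : ∀ a b, f (F a) (F b) = 0 := fun a b => by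
    rw [← hswap, ← hswap, he, hEE, Matrix.mulVec_zero]
  have hEF : ∀ a b, f (E a) (F b) = 0 := fun a b => by
    have h1 := fix1 (f (E a) (F b)) (by rw [← he, hupE, hupF, hr, hEE, zero_add])
    have h0 := fix0 (f (E a) (F b)) (by rw [← he, hloE, hloF, hl, hFF, add_zero])
    funext i; fin_cases i
    · simpa using h0
    · simpa using h1
  have hFE : ∀ a b, f (F a) (E b) = 0 := fun a b => by
    rw [show F a = (wy : SL(2, K)).1.mulVec (E a) from (hswap a).symm,
      show E b = (wy : SL(2, K)).1.mulVec (F b) by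
        rw [coe_wy]; funext i; fin_cases i <;> simp [E, F, Matrix.mulVec, dotProduct, Fin.sum_univ_two],
      he, hEF, Matrix.mulVec_zero]
  have hdec : ∀ v : Fin 2 → K, v = E (v 0) + F (v 1) := fun v => by
    funext i; fin_cases i <;> simp [E, F]
  rw [hdec u, hdec w, hl, hr, hr, hEE, hEF, hFE, hFF]
  simp

/-- equivariant biadditive maps between fixed-point-free modules vanish -/
theorem biadd_eq_zero [Fintype K] (hK : 4 ∣ Fintype.card K) [Finite M] {N : Type*} [AddCommGroup N]
    [Finite N] {ρ : SL(2, K) →* AddMonoid.End M} {σ : SL(2, K) →* AddMonoid.End N}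
    (hρ : IsFpf ρ) (hσ : IsFpf σ) {k j : ℕ} (hM : ∀ v : M, 2 ^ k • v = 0)
    (hN : ∀ v : N, 2 ^ j • v = 0) (f : M → M → N)
    (hl : ∀ u u' w, f (u + u') w = f u w + f u' w) (hr : ∀ u w w', f u (w + w') = f u w + f u w')
    (he : ∀ g u w, f (ρ g u) (ρ g w) = σ g (f u w)) (u w : M) : f u w = 0 := by
  classical
  obtain ⟨r, Ψ, hΨ⟩ := exists_natural hK hρ hM
  obtain ⟨s, Θ, hΘ⟩ := exists_natural hK hσ hN
  have hl' : ∃ l : K, l ≠ 0 ∧ l ≠ 1 := by
    by_contra h
    push_neg at h
    have h2 : Fintype.card K ≤ 2 := by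
      rw [← Finset.card_univ]
      refine le_trans (Finset.card_le_card fun a _ => ?_) (Finset.card_le_two (a := (0 : K)) (b := 1))
      by_cases ha : a = 0
      · simp [ha]
      · simp [h a ha]
    have := Nat.le_of_dvd Fintype.card_pos hK
    omega
  let F : M →+ M →+ N := AddMonoidHom.mk' (fun u => AddMonoidHom.mk' (f u) (hr u))
    (fun u u' => AddMonoidHom.ext fun w => hl u u' w)
  have hsing : ∀ (i i' : Fin r) (p p' : Fin 2 → K), F (Ψ (Pi.single i p)) (Ψ (Pi.single i' p')) = 0 := by
    intro i i' p p'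
    apply Θ.symm.injective
    rw [map_zero]
    funext t
    refine natural_biadd_eq_zero hl'
      (fun p p' => Θ.symm (F (Ψ (Pi.single i p)) (Ψ (Pi.single i' p'))) t) ?_ ?_ ?_ p p'
    · intro a b c
      simp [Pi.single_add]
    · intro a b c
      simp [Pi.single_add]
    · intro g a b
      have e : ∀ (i : Fin r) (a : Fin 2 → K),
          Pi.single i (g.1.mulVec a) = fun l => g.1.mulVec ((Pi.single i a : Fin r → Fin 2 → K) l) := by
        intro i a
        funext l
        rcases eq_or_ne l i with rfl | hne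
        · simp
        · simp [hne]
      simp only [e, ← hΨ]
      show Θ.symm (f (ρ g _) (ρ g _)) t = _
      rw [he]
      conv_lhs => rw [← Θ.apply_symm_apply (f (Ψ (Pi.single i a)) (Ψ (Pi.single i' b))), hΘ,
        Θ.symm_apply_apply]
      rfl
  show F u w = 0
  obtain ⟨c, rfl⟩ := Ψ.surjective u
  obtain ⟨d, rfl⟩ := Ψ.surjective w
  rw [← Finset.univ_sum_single c, ← Finset.univ_sum_single d]
  simp [map_sum, hsing]

end CfsgLib.SLTwoFpf
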